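import Cfsg.Agent.Helper28.TCD
import Cfsg.Agent.Helper28.Y5.Pres

/-! Todd-Coxeter certificate data for Y5D5 (generated). -/

set_option autoImplicit false

namespace Cfsg.Agent.Helper28.Y5D5

noncomputable def colE0 : List ℕ := [0x3e2b45f12c3367692ba964d2aa1c2bb480718639500]

noncomputable def colJ0 : List ℕ := [0x2043f204000d4000000010222502042ca040888408000e8100019000000000000000810c681021c90204292040001400000000003c1]

noncomputable def colE1 : List ℕ := [0x9e2387e0ed3727e8e5a885cecd1b2b268450ce50cf0]

noncomputable def colJ1 : List ℕ := [0x20457204005d4081176810007502000ca0408b840000000100159020452a0408a340811268100059020009200000000811608000401]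

noncomputable def colE2 : List ℕ := [0x7e2786e95a316531242395acb1dc9bd474b14a48ce0]

noncomputable def colJ2 : List ℕ := [0x20467204006d40811b6810236502004ca04002c40800ce81000a5020462a04002740800468102309000000004006140811a08000441]

noncomputable def colE3 : List ℕ := [0xbc1bc6693c3567a914a785ead0d83be26acfd240cd0]

noncomputable def colJ3 : List ℕ := [0x2001f200000000811d681023a5020054a0408e840800ee81001d902001aa040033400000001000c9000000000000000811c08000481]

noncomputable def colE4 : List ℕ := [0x5e1f88596923a820be21a56ec59babc482710a584c1]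

noncomputable def colJ4 : List ℕ := [0x20077204008d40800968100125000000004004840000000000000020072a0400e340801a68100389020059204008140800808000000]

noncomputable def colE5 : List ℕ := [0x0]

noncomputable def colJ5 : List ℕ := [0x0]

noncomputable def colsE : List (List ℕ) := [colE0, colE1, colE2, colE3, colE4, colE5]

noncomputable def colsJ : List (List ℕ) := [colJ0, colJ1, colJ2, colJ3, colJ4, colJ5]

noncomputable def tcol : List ℕ := [0x9f43697498cd220f069acce4732894068000]

noncomputable def lvcol : List ℕ := [0xfedcba9876543210]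

noncomputable def colT0 : List ℕ := [0xfdecba7698543120]

noncomputable def colT1 : List ℕ := [0xfecd9ab874562310]

noncomputable def colT2 : List ℕ := [0xfedabc8967345210]

noncomputable def colT3 : List ℕ := [0xefdcba9853726410]

noncomputable def colT4 : List ℕ := [0xfeb9d8ca76543201]

noncomputable def colsT : List (List ℕ) := [colT0, colT1, colT2, colT3, colT4]

noncomputable def ftcol : List ℕ := [0x3e0d4b49194807063533233212014000]

def pairs : List (ℕ × ℕ × ℕ) := [(0, 0, 1), (1, 1, 1), (2, 2, 1), (3, 3, 1), (4, 4, 1), (0, 1, 3), (0, 2, 2), (0, 3, 3), (0, 4, 3), (1, 2, 3), (1, 3, 2), (1, 4, 2), (2, 3, 2), (2, 4, 2), (3, 4, 2)]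

def extraL : List (List ℕ) := []

def subL : List (List ℕ) := [[0],
  [1],
  [2],
  [3]]

/-- the relator words -/
def relL : List (List ℕ) := pairs.map (fun p => Cfsg.Agent.Helper28.pairWord p.1 p.2.1 p.2.2) ++ extraL

/-- the certificate data -/
noncomputable def D : Cfsg.Agent.Helper28.TCData :=
  Cfsg.Agent.Helper28.mkData 5 31 4 15 11 2047 27 134217727 9 511 colsE colsJ tcol (relL ++ subL) 15 5 16 80 8

/-- the name of a final coset -/
noncomputable def lv : ℕ → ℕ := fun i => Cfsg.Agent.Helper28.bent 5 31 4 15 lvcol i

/-- the final table -/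
noncomputable def T : ℕ → ℕ → ℕ := fun k i => Cfsg.Agent.Helper28.bent 5 31 4 15 (Cfsg.Agent.Helper28.nthL colsT k) i

/-- tree of the final table: parent -/
noncomputable def ftp : ℕ → ℕ := fun i => Nat.land (Cfsg.Agent.Helper28.bent 5 31 8 255 ftcol i) 15

/-- tree of the final table: column -/
noncomputable def ftc : ℕ → ℕ := fun i => Nat.shiftRight (Cfsg.Agent.Helper28.bent 5 31 8 255 ftcol i) 4

/-- the generators -/
def gen : ℕ → Cfsg.Agent.Helper28.Y5.D5.Gen
  | 0 => .a
  | 1 => .b1
  | 2 => .c1
  | 3 => .b2
  | _ => .b3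

/-- the index of a generator -/
def code : Cfsg.Agent.Helper28.Y5.D5.Gen → ℕ
  | .a => 0
  | .b1 => 1
  | .c1 => 2
  | .b2 => 3
  | .b3 => 4

end Cfsg.Agent.Helper28.Y5D5
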